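import Cfsg.Agent.H678.DG.PairRep_m3
import Cfsg.Agent.H852.PSq.HSData
import Cfsg.Agent.H291.DG.HS
import Cfsg.Agent.H33.IM
import Cfsg.Agent.Prune
set_option linter.all false
open scoped Cfsg.Agent.FastGrp

/-!
# The Higman-Sims group has an irreducible character of degree 693 (helper852)

The action on the 1100 subsets of size 30 of the 100 points (cosets of `S8`); the relation is "disjoint". The tables
are checked with `H678/DG/Blk.lean` (helper678).
-/

set_option autoImplicit false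
set_option maxRecDepth 100000

namespace Cfsg.Agent.H852.PSq.HS

universe u

open Cfsg Equiv Cfsg.Agent.SporadicA.PermTab Cfsg.Agent.H994.TwoGen.Words Cfsg.Agent.HSType.Letters
  Cfsg.Agent.H291.DG.HS
open Cfsg.Agent.HN.HS100 (Q)
open Cfsg.Agent.H852.PSq.HSData Cfsg.Agent.H678.DG.Blk

/-- the mask of the subset -/
def mk (x : ℕ) : ℕ := Nat.land (Nat.shiftRight SM (Nat.mul 100 x)) 1267650600228229401496703205375

/-- the tables -/
def PQ : List (ℕ × ℕ) := [(tH, rH), (HSData.tY, rY), (tYi, rYi)]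

/-- the roots -/
def bs : List ℕ := [1, 337, 442, 1072]

/-- words of the stabiliser -/
def KW : List (List (ℕ × ℕ)) := [
  [(HSData.tY, rY), (HSData.tY, rY), (HSData.tY, rY), (tH, rH), (tYi, rYi), (tYi, rYi), (tH, rH), (HSData.tY, rY),
    (HSData.tY, rY), (HSData.tY, rY)],
  [(tH, rH), (tYi, rYi), (tYi, rYi), (tYi, rYi), (tH, rH), (tYi, rYi), (tH, rH), (tYi, rYi), (tH, rH), (tYi, rYi),
    (tYi, rYi)],
  [(tH, rH), (tYi, rYi), (tYi, rYi), (tYi, rYi), (tYi, rYi), (tH, rH), (HSData.tY, rY), (HSData.tY, rY),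
    (HSData.tY, rY), (HSData.tY, rY), (tH, rH)]]

/-- sizes -/
def kk (j : ℕ) : ℕ := [1, 336, 105, 630, 28].getD j 0

/-- the collapsed matrix -/
def B (i j : ℕ) : ℕ := ([[0, 0, 0, 0, 28], [0, 12, 0, 15, 1], [0, 0, 0, 24, 4], [0, 8, 4, 16, 0],
  [1, 12, 15, 0, 0]].getD i []).getD j 0

theorem c1 : allL (chkPQ 100 1100 mk) PQ = true := chkPQ_of_c (by decide +kernel)
theorem c2 : chkInj 1100 100 mk = true := chkInj_of_res 73491 (by decide +kernel)
theorem c3 : allL (chkW 1100 bs) KW = true := by decide +kernel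
theorem c4 : chkF 1100 bs PQ KW (lk PR) = true := by decide +kernel
theorem c5 : chkK 1100 5 bs kk = true := by decide +kernel
theorem c6 : chkB 100 1100 5 0 mk bs B = true := chkB_of_pc (by decide +kernel)

theorem cYY : chkInv 100 HSData.tY tYi = true := by decide +kernel

theorem wY_val (i : Fin 100) : ((val gl wY i : Fin 100) : ℕ) = lk HSData.tY i := by
  have h : allB (fun x => Nat.beq (evp wY x) (lk HSData.tY x)) 100 = true := by decide +kernel
  exact (ev_val wY i).trans (Nat.eq_of_beq_eq_true ((allB_iff _ _).1 h i i.2))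

theorem wX_val (i : Fin 100) : ((val gl wX i : Fin 100) : ℕ) = lk tH i := by
  have h : allB (fun x => Nat.beq (evp wX x) (lk tH x)) 100 = true := by decide +kernel
  exact (ev_val wX i).trans (Nat.eq_of_beq_eq_true ((allB_iff _ _).1 h i i.2))

theorem wY_mem : val gl wY ∈ Q := by
  rw [← H_eq]
  exact Subgroup.subset_closure (Or.inr rfl)

theorem inYY : InG Q HSData.tY := ⟨_, wY_mem, wY_val⟩

theorem inYYi : InG Q tYi := by
  refine ⟨(val gl wY)⁻¹, Q.inv_mem wY_mem, fun i => ?_⟩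
  obtain ⟨j, rfl⟩ : ∃ j, val gl wY j = i := ⟨(val gl wY)⁻¹ i, (val gl wY).apply_symm_apply i⟩
  have h1 : (val gl wY)⁻¹ (val gl wY j) = j := (val gl wY).symm_apply_apply j
  rw [h1, wY_val]
  exact ((chkInv_spec cYY j).2.2.1).symm

theorem hGT : ∀ g ∈ ({val gl wX, val gl wY} : Set (Perm (Fin 100))), ∃ pq ∈ PQ,
    ∀ i : Fin 100, ((g i : Fin 100) : ℕ) = lk pq.1 i := by
  rintro g (rfl | rfl)
  · exact ⟨(tH, rH), by simp [PQ], wX_val⟩
  · exact ⟨(HSData.tY, rY), by simp [PQ], wY_val⟩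

theorem hin : ∀ pq ∈ PQ, InG Q pq.1 := by
  intro pq h
  simp only [PQ, List.mem_cons, List.not_mem_nil, or_false] at h
  rcases h with rfl | rfl | rfl
  exacts [inH, inYY, inYYi]

theorem hKW : ∀ w ∈ KW, ∀ pq ∈ w, pq ∈ PQ := by
  intro w hw pq hpq
  simp only [KW, List.mem_cons, List.not_mem_nil, or_false] at hw
  unfold PQ
  rcases hw with rfl | rfl | rfl <;>
  · simp only [List.mem_cons, List.not_mem_nil, or_false] at hpq ⊢
    tauto

theorem deg_693 : ∃ χ : IrrCharacter Q, charDegree (χ : Q → ℂ) = 693 :=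
  deg_of_tables (s := 0) H_eq.symm hGT hin hKW (by norm_num) rfl c1 c2 c3 c4 c5 c6 (by norm_num)
    ![1, -1/84, -1/21, 1/63, -1/14] (-2)
    ![![0, 0, 0, 0, 0], ![1/168, 1/18, -1/18, 1/36, 0], ![1/42, -8/45, -11/90, 14/45, 0],
      ![-1/126, 2/135, 7/135, -7/270, 0], ![1/28, 0, 0, 0, 0]]
    693 (by decide +kernel) (by decide +kernel) (by decide +kernel) (by decide +kernel)

/-- The pair `(HS, 3)`. -/
theorem sq_hs_three {S : Type u} [Group S] (h : Spor.IsoHS S) : H33.IM (3 ^ 2) S := by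
  obtain ⟨e⟩ := h
  obtain ⟨⟨f⟩, -⟩ := Cfsg.Agent.HN.AutHS.nonempty_Q
  obtain ⟨χ, hχ⟩ := deg_693
  have h1 : H33.IM (3 ^ 2) Q := ⟨χ, by rw [hχ]; norm_num⟩
  exact h1.of_equiv (e.trans f.symm)

end Cfsg.Agent.H852.PSq.HS

private theorem dce_0a3967e656d9 : _root_.True := by
  try have : _root_.True := by simp only [_root_.Cfsg.Agent.H852.PSq.HS.KW.eq_1]
  try have : _root_.True := by simp only [_root_.Cfsg.Agent.H852.PSq.HS.PQ.eq_1]
  exact _root_.True.intro
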